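import Cfsg.Agent.TensorMinus.Overgroup
import Cfsg.Agent.TensorSympOrth.Main

/-!
# Maximality of symplectic plane ⊗ minus type in `Sp₈`
-/

set_option autoImplicit false
set_option linter.unusedSectionVars false

namespace CfsgLib.TensorSympOrth

open Matrix Cfsg.Geo CfsgLib.MaxSub CfsgLib.TensorMax
open CfsgLib.TensorUnitary (row form ev isom pMat)
open scoped Kronecker

/-- A form that is not of plus type has no totally isotropic plane. -/
theorem noIsoPlane_of_not_plus {F : Type*} [Field F] {a : ℕ} {f₁ : (Fin a → F) → (Fin a → F) → F}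
    {f₂ : (Fin 4 → F) → (Fin 4 → F) → F} (hs : Setting f₁ f₂)
    (hminus : ¬ IsPlusTypeOn (fun v : Fin 4 → F => f₂ v v) ⊤) : NoIsoPlane f₂ := by
  intro u v hu huu huv hvv
  by_contra hne
  push Not at hne
  have hli : LinearIndependent F ![u, v] :=
    (LinearIndependent.pair_iff' hu).mpr fun t => (hne t).symm
  refine hminus ⟨Submodule.span F (Set.range ![u, v]), le_top, fun w hw => ?_, ?_⟩
  · rw [Matrix.range_cons, Matrix.range_cons, Matrix.range_empty, Set.union_empty, Set.singleton_union,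
      Submodule.mem_span_pair] at hw
    obtain ⟨x, y, rfl⟩ := hw
    simp only [hs.b2.add_left, hs.b2.add_right, hs.b2.smul_left, hs.b2.smul_right, huu, huv, hvv, hs.symm2 v u,
      mul_zero, add_zero]
  · rw [finrank_span_eq_card hli, finrank_top, Module.finrank_fin_fun, Fintype.card_fin]

/-- The stabiliser in `Sp` of a decomposition symplectic plane ⊗ minus type of dimension four is maximal. -/
theorem isMaximalIn_tensorMinus {F : Type*} [Field F] [Fintype F] {m : ℕ} (h2 : (2 : F) ≠ 0)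
    (e : (Fin m ⊕ Fin m) ≃ Fin 2 × Fin 4) (P : GL (Fin m ⊕ Fin m) F) {f₁ : (Fin 2 → F) → (Fin 2 → F) → F}
    {f₂ : (Fin 4 → F) → (Fin 4 → F) → F} (hf₁ : IsSymplecticForm f₁) (hf₂ : IsSymmetricForm f₂)
    (hminus : ¬ IsPlusTypeOn (fun v : Fin 4 → F => f₂ v v) ⊤)
    (hT : IsTensorFormStructure id (Cfsg.sympForm m F) f₁ f₂ e P) :
    IsMaximalIn (Cfsg.spGL m F) (tensorProductSubgroup 2 4 e P ⊓ Cfsg.spGL m F) := by
  have hs : Setting f₁ f₂ := ⟨hf₁, hf₂, h2⟩
  have hmin : NoIsoPlane f₂ := noIsoPlane_of_not_plus hs hminus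
  obtain ⟨c, hc0, hT⟩ := hT
  set J := CfsgLib.AschbacherForms.coords e P with hJ
  have hform : ∀ x y, Cfsg.sympForm m F (J x) (J y) = c * form f₁ f₂ x y := fun x y => by
    rw [← hs.formOfGram_eq_form]
    exact hT x y
  let φ : GL (Idx 2 4) F ≃* GL (Fin m ⊕ Fin m) F := (glReindex e.symm).trans (MulAut.conj P)
  have hφ : ∀ (g : GL (Idx 2 4) F) x, (φ g : Matrix (Fin m ⊕ Fin m) (Fin m ⊕ Fin m) F) *ᵥ J x
      = J ((g : Matrix (Idx 2 4) (Idx 2 4) F) *ᵥ x) := by
    intro g x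
    show ((P * glReindex e.symm g * P⁻¹ : GL (Fin m ⊕ Fin m) F) : Matrix (Fin m ⊕ Fin m) (Fin m ⊕ Fin m) F) *ᵥ
      ((P : Matrix (Fin m ⊕ Fin m) (Fin m ⊕ Fin m) F) *ᵥ (x ∘ e)) =
      (P : Matrix (Fin m ⊕ Fin m) (Fin m ⊕ Fin m) F) *ᵥ (_ ∘ e)
    rw [mulVec_mulVec, ← Units.val_mul, inv_mul_cancel_right, Units.val_mul, ← mulVec_mulVec]
    congr 1
    show (g : Matrix (Idx 2 4) (Idx 2 4) F).submatrix e.symm.symm e.symm.symm *ᵥ (x ∘ e) = _
    rw [Equiv.symm_symm, Matrix.submatrix_mulVec_equiv, Function.comp_assoc, Equiv.self_comp_symm,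
      Function.comp_id]
  have hSp : ∀ g, φ g ∈ Cfsg.spGL m F ↔ g ∈ isom (form f₁ f₂) := by
    intro g
    rw [mem_spGL_iff]
    refine ⟨fun h x y => ?_, fun h u v => ?_⟩
    · have := h (J x) (J y)
      rw [hφ, hφ, hform, hform] at this
      exact mul_left_cancel₀ hc0 this
    · obtain ⟨x, rfl⟩ := J.surjective u
      obtain ⟨y, rfl⟩ := J.surjective v
      rw [hφ, hφ, hform, hform, h]
  have hmapSp : (isom (form f₁ f₂)).map φ.toMonoidHom = Cfsg.spGL m F := by
    ext g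
    constructor
    · rintro ⟨h, hh, rfl⟩
      exact (hSp h).mpr hh
    · intro hg
      exact ⟨φ.symm g, (hSp _).mp (by rw [φ.apply_symm_apply]; exact hg), φ.apply_symm_apply g⟩
  have hK : (kroneckerSubgroup 2 4 F).map φ.toMonoidHom = tensorProductSubgroup 2 4 e P := by
    rw [tensorProductSubgroup, Subgroup.map_map]
    rfl
  have hmax : IsMaximalIn (isom (form f₁ f₂)) (tensSO f₁ f₂) := by
    refine ⟨hs.tensSO_lt_isom le_rfl (by norm_num), fun M hLM hM => ?_⟩
    by_cases hne : ∃ g ∈ M, g ∉ tensSO f₁ f₂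
    swap
    · push Not at hne
      exact Or.inl (le_antisymm hne hLM)
    refine Or.inr (le_antisymm hM ?_)
    obtain ⟨g, hgM, hgL⟩ := hne
    refine (Subgroup.map_le_map_iff_of_injective (f := φ.toMonoidHom) φ.injective).mp ?_
    rw [hmapSp]
    refine spGL_le_of_forall_spTv fun v k => ?_
    obtain ⟨x, rfl⟩ := J.surjective v
    refine ⟨_, hs.cen_of_overgroup_minus hmin hLM hM hgM hgL x (k * c), gl_ext fun w => ?_⟩
    obtain ⟨y, rfl⟩ := J.surjective w
    show (φ _ : Matrix (Fin m ⊕ Fin m) (Fin m ⊕ Fin m) F) *ᵥ J y = _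
    rw [hφ, spTv_mulVec, hform, ctv_mulVec hs.bf hs.nf (hs.form_alt x), map_add, map_smul, mul_assoc]
  have h := CfsgLib.TensorMax.isMaximalIn_map φ hmax
  rwa [tensSO, Subgroup.map_inf _ _ _ φ.injective, hmapSp, hK] at h

end CfsgLib.TensorSympOrth
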