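import Cfsg.Agent.TensorSympOrth.Orth

/-!
# A symplectic plane as first factor
-/

set_option autoImplicit false
set_option linter.unusedSectionVars false

namespace CfsgLib.TensorSympOrth

open Matrix Cfsg.Geo CfsgLib.MaxSub CfsgLib.TensorMax
open CfsgLib.TensorUnitary (form ev isom pMat)

variable {F : Type*} [Field F]

/-- A linear injection as an invertible matrix. -/
theorem exists_gl_of_linear {n : ℕ} (L : (Fin n → F) →ₗ[F] (Fin n → F)) (h : Function.Injective L) :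
    ∃ A : GL (Fin n) F, ∀ x, (A : Matrix (Fin n) (Fin n) F) *ᵥ x = L x := by
  have hu : IsUnit (LinearMap.toMatrix' L) := mulVec_injective_iff_isUnit.mp fun x y hxy => h (by
    simpa using hxy)
  obtain ⟨T, hT⟩ := hu
  exact ⟨T, fun x => by rw [hT, LinearMap.toMatrix'_mulVec]⟩

namespace Setting

variable {b : ℕ} {f₁ : (Fin 2 → F) → (Fin 2 → F) → F} {f₂ : (Fin b → F) → (Fin b → F) → F}
  (hs : Setting f₁ f₂)
include hs

theorem plane_formula (x y : Fin 2 → F) :
    f₁ x y = f₁ (Pi.single 0 1) (Pi.single 1 1) * (x 0 * y 1 - x 1 * y 0) := by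
  rw [hs.expand1 x y]
  simp only [Fin.sum_univ_two, hs.alt1, zero_mul, zero_add, add_zero]
  rw [hs.skew1 (Pi.single (1 : Fin 2) (1 : F)) (Pi.single 0 1)]
  ring

theorem plane_decomp {u v : Fin 2 → F} (h : f₁ u v ≠ 0) (x : Fin 2 → F) :
    x = (f₁ x v / f₁ u v) • u + (f₁ u x / f₁ u v) • v := by
  refine smul_right_injective _ h ?_
  show f₁ u v • x = f₁ u v • _
  rw [smul_add, smul_smul, smul_smul, mul_div_cancel₀ _ h, mul_div_cancel₀ _ h, hs.plane_formula u v,
    hs.plane_formula x v, hs.plane_formula u x]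
  funext i
  fin_cases i <;>
    simp only [Pi.smul_apply, Pi.add_apply, smul_eq_mul, Fin.zero_eta, Fin.mk_one, Fin.isValue] <;> ring

theorem plane_ext {u v : Fin 2 → F} (h : f₁ u v ≠ 0) {L L' : (Fin 2 → F) →ₗ[F] (Fin 2 → F)}
    (hu : L u = L' u) (hv : L v = L' v) (x : Fin 2 → F) : L x = L' x := by
  rw [hs.plane_decomp h x, map_add, map_add, map_smul, map_smul, map_smul, map_smul, hu, hv]

/-- An operator with all vectors orthogonal to their images is a scalar. -/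
theorem plane_eigen (L : (Fin 2 → F) →ₗ[F] (Fin 2 → F)) (h : ∀ u, f₁ (L u) u = 0) :
    ∃ c : F, ∀ x, L x = c • x := by
  refine exists_scalar_of_eigen L fun u => ?_
  rcases eq_or_ne u 0 with rfl | hu
  · exact ⟨0, by rw [map_zero, smul_zero]⟩
  obtain ⟨z, hz⟩ := (hs.n1 u hu).2
  refine ⟨f₁ (L u) z / f₁ u z, (hs.plane_decomp hz (L u)).trans ?_⟩
  rw [hs.skew1 u (L u), h, neg_zero, zero_div, zero_smul, add_zero]

/-- A self-adjoint operator is a scalar. -/
theorem plane_symm (L : (Fin 2 → F) →ₗ[F] (Fin 2 → F)) (h : ∀ u v, f₁ (L u) v = f₁ u (L v)) :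
    ∃ c : F, ∀ x, L x = c • x := by
  refine hs.plane_eigen L fun u => ?_
  have h1 := h u u
  rw [hs.skew1 u (L u)] at h1
  exact (mul_eq_zero.mp (show (2 : F) * f₁ (L u) u = 0 by linear_combination h1)).resolve_left hs.two

/-- An element commuting with the transvections up to scalars is a scalar. -/
theorem plane_ctv_scalar (A : GL (Fin 2) F)
    (h : ∀ u : Fin 2 → F, ∃ ε : F, (A : Matrix (Fin 2) (Fin 2) F) *ᵥ u
      = ε • ((ctv f₁ u 1 : Matrix (Fin 2) (Fin 2) F) *ᵥ ((A : Matrix (Fin 2) (Fin 2) F) *ᵥ u))) :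
    ∃ c : F, ∀ x, (A : Matrix (Fin 2) (Fin 2) F) *ᵥ x = c • x := by
  refine hs.plane_eigen (A : Matrix (Fin 2) (Fin 2) F).mulVecLin fun u => ?_
  show f₁ ((A : Matrix (Fin 2) (Fin 2) F) *ᵥ u) u = 0
  obtain ⟨ε, hε⟩ := h u
  set w := (A : Matrix (Fin 2) (Fin 2) F) *ᵥ u
  by_contra hne
  rw [hs.ctv1_mulVec, one_mul] at hε
  have h1 := congrArg (fun z => f₁ z u) hε
  simp only [hs.b1.smul_left, hs.b1.add_left, hs.alt1, mul_zero, add_zero] at h1
  have hε1 : ε = 1 := (mul_left_eq_self₀.mp h1.symm).resolve_right hne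
  rw [hε1, one_smul, left_eq_add, smul_eq_zero] at hε
  have hu : u = 0 := hε.resolve_left hne
  exact hne (by rw [hu, bl_zero_right hs.b1])

/-- An isometry commuting up to scalars with its conjugates is a scalar, if `-1` is a square. -/
theorem plane_comm_scalar {i : F} (hi : i * i = -1) {B : GL (Fin 2) F} (hB : B ∈ isom f₁)
    (h : ∀ (u : Fin 2 → F) (k : F), ∃ ε : F,
      (B : Matrix (Fin 2) (Fin 2) F) *ᵥ (((ctv f₁ u k * B * (ctv f₁ u k)⁻¹ : GL (Fin 2) F) :
        Matrix (Fin 2) (Fin 2) F) *ᵥ u)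
      = ε • (((ctv f₁ u k * B * (ctv f₁ u k)⁻¹ : GL (Fin 2) F) : Matrix (Fin 2) (Fin 2) F) *ᵥ
          ((B : Matrix (Fin 2) (Fin 2) F) *ᵥ u))) :
    ∃ c : F, ∀ x, (B : Matrix (Fin 2) (Fin 2) F) *ᵥ x = c • x := by
  refine hs.plane_eigen (B : Matrix (Fin 2) (Fin 2) F).mulVecLin fun u => ?_
  show f₁ ((B : Matrix (Fin 2) (Fin 2) F) *ᵥ u) u = 0
  rw [hs.skew1, neg_eq_zero]
  set v := (B : Matrix (Fin 2) (Fin 2) F) *ᵥ u with hv
  by_contra hc
  set c := f₁ u v with hcdef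
  obtain ⟨w, hw⟩ : ∃ w, (B : Matrix (Fin 2) (Fin 2) F) *ᵥ v = w := ⟨_, rfl⟩
  obtain ⟨T, hT⟩ : ∃ T, T = f₁ u w / c := ⟨_, rfl⟩
  have huw : f₁ u w = T * c := by rw [hT, div_mul_cancel₀ _ hc]
  have hvu : f₁ v u = -c := hs.skew1 v u
  have hwv : f₁ w v = -c := by rw [← hw, hv, hB, ← hv, hvu]
  have key : ∀ m : F, m ≠ 0 → m * m = T * T - 2 := by
    intro m hm
    obtain ⟨k, hk⟩ : ∃ k, k = m / c := ⟨_, rfl⟩
    have hkc : k * c = m := by rw [hk, div_mul_cancel₀ _ hc]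
    obtain ⟨ε, hε⟩ := h u k
    have hinv : ∀ x, (((ctv f₁ u k)⁻¹ : GL (Fin 2) F) : Matrix (Fin 2) (Fin 2) F) *ᵥ x
        = x - (k * f₁ x u) • u := fun x => by
      refine gl_mulVec_inj (ctv f₁ u k) ?_
      rw [gl_mulVec_inv, hs.ctv1_mulVec, bl_sub_left hs.b1, hs.b1.smul_left, hs.alt1, mul_zero, sub_zero,
        sub_add_cancel]
    simp only [gl_mul_mulVec, hinv, hs.alt1, mul_zero, zero_smul, sub_zero, ← hv, hs.ctv1_mulVec, hvu,
      mulVec_sub, mulVec_add, mulVec_smul, hw] at hε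
    have e1 := congrArg (fun z => f₁ u z) hε
    have e2 := congrArg (fun z => f₁ z v) hε
    simp only [hs.b1.smul_left, hs.b1.smul_right, hs.b1.add_left, hs.b1.add_right, bl_sub_left hs.b1,
      bl_sub_right hs.b1, hs.alt1, huw, hwv, hvu, hs.skew1 w u, ← hcdef] at e1 e2
    have e1' : T - m = ε * (T + m) := mul_left_cancel₀ hc (by rw [← hkc]; linear_combination e1)
    have e2' : 1 = ε * (1 + m * T + m * m) := mul_left_cancel₀ hc (by rw [← hkc]; linear_combination -e2)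
    exact (mul_left_cancel₀ hm (show m * (T * T - 2) = m * (m * m) by
      linear_combination (1 + m * T + m * m) * e1' - (T + m) * e2')).symm
  have hi0 : i ≠ 0 := fun h0 => by rw [h0, zero_mul, zero_eq_neg] at hi; exact one_ne_zero hi
  have h1 := key 1 one_ne_zero
  rw [← key i hi0, hi, one_mul, eq_neg_iff_add_eq_zero, one_add_one_eq_two] at h1
  exact hs.two h1

end Setting

end CfsgLib.TensorSympOrth
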