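import Cfsg.Agent.Forms.Diagonal
import Cfsg.Agent.TensorMinus.Plane
import Cfsg.Agent.TensorSympOrth.Step

/-!
# Symplectic plane ⊗ minus type: elements fixing two slices
-/

set_option autoImplicit false
set_option linter.unusedSectionVars false

namespace CfsgLib.TensorSympOrth

open Matrix Cfsg.Geo CfsgLib.MaxSub CfsgLib.TensorMax
open CfsgLib.TensorUnitary (form ev isom pMat rowsIn)
open scoped Kronecker

variable {F : Type*} [Field F]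

/-- `g` acts on the slice at `k` by `A`. -/
def Act {a b : ℕ} (g : GL (Idx a b) F) (k : Fin b → F) (A : GL (Fin a) F) : Prop :=
  ∀ u, (g : Matrix (Idx a b) (Idx a b) F) *ᵥ ten u k = ten ((A : Matrix (Fin a) (Fin a) F) *ᵥ u) k

section Act

variable {a b : ℕ} {g h : GL (Idx a b) F} {k k' : Fin b → F} {A A' : GL (Fin a) F}

theorem act_mul (hg : Act g k A) (hh : Act h k A') : Act (g * h) k (A * A') := fun u => by
  rw [gl_mul_mulVec, hh, hg, gl_mul_mulVec]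

theorem act_inv (hg : Act g k A) : Act g⁻¹ k A⁻¹ := fun u => by
  refine gl_mulVec_inj g ?_
  rw [gl_mulVec_inv, hg, gl_mulVec_inv]

theorem act_smul (hg : Act g k A) (c : F) : Act g (c • k) A := fun u => by
  rw [ten_smul_right, mulVec_smul, hg, ten_smul_right]

theorem act_one_iff : Act g k 1 ↔ ∀ u, (g : Matrix (Idx a b) (Idx a b) F) *ᵥ ten u k = ten u k := by
  simp only [Act, Units.val_one, one_mulVec]

theorem act_kron_left (S : GL (Fin a) F) (k : Fin b → F) : Act (krG (S, (1 : GL (Fin b) F))) k S := fun u => by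
  rw [krG_val, Units.val_one, kron_mulVec_ten, one_mulVec]

/-- Transport by an involution of the second factor. -/
theorem act_conj {T : GL (Fin b) F} (hT2 : T * T = 1) (hT : (T : Matrix (Fin b) (Fin b) F) *ᵥ k = k')
    (hg : Act g k A) :
    Act (krG ((1 : GL (Fin a) F), T) * g * krG ((1 : GL (Fin a) F), T)) k' A := fun u => by
  have hT' : (T : Matrix (Fin b) (Fin b) F) *ᵥ k' = k := by
    rw [← hT, ← gl_mul_mulVec, hT2, Units.val_one, one_mulVec]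
  rw [gl_mul_mulVec, gl_mul_mulVec, krG_val, Units.val_one, kron_mulVec_ten, one_mulVec, hT', hg,
    kron_mulVec_ten, one_mulVec, hT]

end Act

/-- The only isotropic slices fixed by elements of `M` are those of the stabiliser. -/
def FreeIso {a b : ℕ} (f₁ : (Fin a → F) → (Fin a → F) → F) (f₂ : (Fin b → F) → (Fin b → F) → F)
    (M : Subgroup (GL (Idx a b) F)) : Prop :=
  ∀ c, c ≠ 0 → f₂ c c = 0 → ∀ y ∈ M, (∀ x, (y : Matrix (Idx a b) (Idx a b) F) *ᵥ ten x c = ten x c) →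
    y ∈ tensSO f₁ f₂

/-- No totally isotropic plane. -/
def NoIsoPlane {b : ℕ} (f₂ : (Fin b → F) → (Fin b → F) → F) : Prop :=
  ∀ u v, u ≠ 0 → f₂ u u = 0 → f₂ u v = 0 → f₂ v v = 0 → ∃ t : F, v = t • u

namespace Setting

variable {f₁ : (Fin 2 → F) → (Fin 2 → F) → F} {f₂ : (Fin 4 → F) → (Fin 4 → F) → F}
  (hs : Setting f₁ f₂) {M : Subgroup (GL (Idx 2 4) F)}
include hs

local notation "Φ" => form f₁ f₂
local notation "𝕃" => tensSO f₁ f₂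

theorem orth4 {k₀ k₁ k₂ k₃ : Fin 4 → F} (h0 : f₂ k₀ k₀ ≠ 0) (h1 : f₂ k₁ k₁ ≠ 0) (h2 : f₂ k₂ k₂ ≠ 0)
    (h3 : f₂ k₃ k₃ ≠ 0) (h01 : f₂ k₀ k₁ = 0) (h02 : f₂ k₀ k₂ = 0) (h03 : f₂ k₀ k₃ = 0)
    (h12 : f₂ k₁ k₂ = 0) (h13 : f₂ k₁ k₃ = 0) (h23 : f₂ k₂ k₃ = 0) : IsOrth f₂ ![k₀, k₁, k₂, k₃] := by
  refine ⟨fun i => ?_, fun i j hij => ?_⟩
  · fin_cases i <;> assumption
  · fin_cases i <;> fin_cases j <;> first
      | exact absurd rfl hij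
      | assumption
      | (rw [hs.symm2]; assumption)

/-- The expansion in an orthogonal basis. -/
theorem slice_sum {k₀ k₁ k₂ k₃ : Fin 4 → F} (hk : IsOrth f₂ ![k₀, k₁, k₂, k₃]) (v : Idx 2 4 → F) :
    v = ten ((f₂ k₀ k₀)⁻¹ • ev f₂ k₀ v) k₀ + ten ((f₂ k₁ k₁)⁻¹ • ev f₂ k₁ v) k₁
      + ten ((f₂ k₂ k₂)⁻¹ • ev f₂ k₂ v) k₂ + ten ((f₂ k₃ k₃)⁻¹ • ev f₂ k₃ v) k₃ := by
  refine vec_ext fun i => ?_
  rw [← sub_eq_zero]
  refine hs.eq_zero_of_perp hk rfl fun j => ?_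
  have h0 : f₂ k₀ k₀ ≠ 0 := hk.1 0
  have h1 : f₂ k₁ k₁ ≠ 0 := hk.1 1
  have h2 : f₂ k₂ k₂ ≠ 0 := hk.1 2
  have h3 : f₂ k₃ k₃ ≠ 0 := hk.1 3
  have e01 : f₂ k₀ k₁ = 0 := hk.2 0 1 (by decide)
  have e02 : f₂ k₀ k₂ = 0 := hk.2 0 2 (by decide)
  have e03 : f₂ k₀ k₃ = 0 := hk.2 0 3 (by decide)
  have e12 : f₂ k₁ k₂ = 0 := hk.2 1 2 (by decide)
  have e13 : f₂ k₁ k₃ = 0 := hk.2 1 3 (by decide)
  have e23 : f₂ k₂ k₃ = 0 := hk.2 2 3 (by decide)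
  fin_cases j <;>
    simp [row_add, TensorUnitary.row_ten, bl_sub_left hs.b2, hs.b2.add_left, hs.b2.smul_left, ev, e01, e02,
      e03, e12, e13, e23, hs.symm2 k₁ k₀, hs.symm2 k₂ k₀, hs.symm2 k₃ k₀, hs.symm2 k₂ k₁, hs.symm2 k₃ k₁,
      hs.symm2 k₃ k₂, h0, h1, h2, h3, mul_comm, mul_left_comm]

variable [Fintype F]

theorem free_pair (hfree : FreeIso f₁ f₂ M) {u v : Fin 4 → F} (hu : f₂ u u ≠ 0) (huv : f₂ u v = 0)
    (hv : f₂ v v ≠ 0) (hsq : IsSquare (-(f₂ u u * f₂ v v))) {y : GL (Idx 2 4) F} (hy : y ∈ M)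
    (hyu : Act y u 1) (hyv : Act y v 1) : y ∈ 𝕃 := by
  obtain ⟨e, he⟩ := hsq
  refine hfree (e • u + f₂ u u • v) (fun h0 => ?_) ?_ y hy fun x => ?_
  · have h1 := congrArg (fun w => f₂ w v) h0
    simp only [hs.b2.add_left, hs.b2.smul_left, huv, mul_zero, zero_add, bl_zero_left hs.b2] at h1
    exact mul_ne_zero hu hv h1
  · simp only [hs.b2.add_left, hs.b2.add_right, hs.b2.smul_left, hs.b2.smul_right, huv, hs.symm2 v u]
    linear_combination -(f₂ u u) * he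
  · rw [ten_add_right, ten_smul_right, ten_smul_right, mulVec_add, mulVec_smul, mulVec_smul,
      act_one_iff.mp hyu, act_one_iff.mp hyv]

/-- The complement of an anisotropic plane is hyperbolic. -/
theorem hyper_of_aniso (hmin : NoIsoPlane f₂) {k₀ k₁ k₂ k₃ : Fin 4 → F} (hk : IsOrth f₂ ![k₀, k₁, k₂, k₃])
    (hP : ¬ IsSquare (-(f₂ k₂ k₂ * f₂ k₃ k₃))) : IsSquare (-(f₂ k₀ k₀ * f₂ k₁ k₁)) := by
  by_contra hQ
  have e01 : f₂ k₀ k₁ = 0 := hk.2 0 1 (by decide)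
  have e02 : f₂ k₀ k₂ = 0 := hk.2 0 2 (by decide)
  have e03 : f₂ k₀ k₃ = 0 := hk.2 0 3 (by decide)
  have e12 : f₂ k₁ k₂ = 0 := hk.2 1 2 (by decide)
  have e13 : f₂ k₁ k₃ = 0 := hk.2 1 3 (by decide)
  have e23 : f₂ k₂ k₃ = 0 := hk.2 2 3 (by decide)
  obtain ⟨e, he⟩ : IsSquare (f₂ k₀ k₀ * f₂ k₁ k₁ * (f₂ k₂ k₂ * f₂ k₃ k₃)) := by
    rw [← neg_mul_neg]
    exact CfsgLib.Forms.isSquare_mul_of_not_isSquare hQ hP
  obtain ⟨s₀, s₁, hs01⟩ := exists_sq_add_sq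
    (Nat.odd_iff.mpr (FiniteField.odd_card_of_char_ne_two fun h => hs.two (by
      have : CharP F 2 := ringChar.of_eq h
      exact CharTwo.two_eq_zero))) (hk.1 0) (hk.1 1) (-(f₂ k₂ k₂))
  have h0 : f₂ k₀ k₀ ≠ 0 := hk.1 0
  have h1 : f₂ k₁ k₁ ≠ 0 := hk.1 1
  have h2 : f₂ k₂ k₂ ≠ 0 := hk.1 2
  have h3 : f₂ k₃ k₃ ≠ 0 := hk.1 3
  simp only [Matrix.cons_val_zero, Matrix.cons_val_one] at hs01
  obtain ⟨μ, hμ⟩ : ∃ μ, μ = e / (f₂ k₀ k₀ * f₂ k₁ k₁ * f₂ k₂ k₂) := ⟨_, rfl⟩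
  have hμe : μ * (f₂ k₀ k₀ * f₂ k₁ k₁ * f₂ k₂ k₂) = e := by
    rw [hμ, div_mul_cancel₀ _ (mul_ne_zero (mul_ne_zero h0 h1) h2)]
  have hμ3 : μ * μ * (f₂ k₀ k₀ * f₂ k₁ k₁ * f₂ k₂ k₂) = f₂ k₃ k₃ := by
    refine mul_left_cancel₀ (mul_ne_zero (mul_ne_zero h0 h1) h2) ?_
    linear_combination (μ * (f₂ k₀ k₀ * f₂ k₁ k₁ * f₂ k₂ k₂) + e) * hμe - he
  obtain ⟨t, ht⟩ := hmin (k₂ + s₀ • k₀ + s₁ • k₁)
    (k₃ + (μ * (s₁ * f₂ k₁ k₁)) • k₀ + (-(μ * (s₀ * f₂ k₀ k₀))) • k₁) (fun h => h2 (by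
      have := congrArg (fun w => f₂ w k₂) h
      simpa [hs.b2.add_left, hs.b2.smul_left, e02, e12, bl_zero_left hs.b2] using this)) (by
      simp only [hs.b2.add_left, hs.b2.add_right, hs.b2.smul_left, hs.b2.smul_right, e01, e02, e12,
        hs.symm2 k₁ k₀, hs.symm2 k₂ k₀, hs.symm2 k₂ k₁]
      linear_combination hs01) (by
      simp only [hs.b2.add_left, hs.b2.add_right, hs.b2.smul_left, hs.b2.smul_right, e01, e02, e03, e12, e13,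
        e23, hs.symm2 k₁ k₀, hs.symm2 k₂ k₀, hs.symm2 k₂ k₁]
      ring) (by
      simp only [hs.b2.add_left, hs.b2.add_right, hs.b2.smul_left, hs.b2.smul_right, e01, e03, e13,
        hs.symm2 k₁ k₀, hs.symm2 k₃ k₀, hs.symm2 k₃ k₁]
      linear_combination μ * μ * f₂ k₀ k₀ * f₂ k₁ k₁ * hs01 - hμ3)
  have := congrArg (fun w => f₂ w k₃) ht
  simp only [hs.b2.add_left, hs.b2.smul_left, e03, e13, e23, mul_zero, add_zero] at this
  exact h3 this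

/-- A member of the stabiliser that fixes a slice acts on others by scalars. -/
theorem act_scalar {g : GL (Idx 2 4) F} (hg : g ∈ 𝕃) {h : Fin 4 → F} (hh : f₂ h h ≠ 0) (hgh : Act g h 1)
    {k : Fin 4 → F} (hk : f₂ k k ≠ 0) {A : GL (Fin 2) F} (hA : Act g k A) :
    ∃ c : F, ∀ x, (A : Matrix (Fin 2) (Fin 2) F) *ᵥ x = c • x := by
  obtain ⟨T, -, hgT, -⟩ := hs.eq_one_kron (by norm_num) hg (fun h0 => hh (by rw [h0, bl_zero_left hs.b2]))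
    (act_one_iff.mp hgh)
  refine ⟨f₂ ((T : Matrix (Fin 4) (Fin 4) F) *ᵥ k) k / f₂ k k, fun x => ?_⟩
  have h1 := congrArg (ev f₂ k) (hA x)
  rw [hgT, krG_val, Units.val_one, kron_mulVec_ten, one_mulVec, hs.ev_ten, hs.ev_ten] at h1
  rw [div_eq_inv_mul, mul_smul, h1, smul_smul, inv_mul_cancel₀ hk, one_smul]

variable (hmin : NoIsoPlane f₂) (hLM : tensSO f₁ f₂ ≤ M) (hM : M ≤ isom (form f₁ f₂))
  (hfree : FreeIso f₁ f₂ M)
include hmin hLM hM hfree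

/-- An element preserving four slices acts on them by scalars. -/
theorem diag_scalar {k₀ k₁ k₂ k₃ : Fin 4 → F} (hk : IsOrth f₂ ![k₀, k₁, k₂, k₃])
    (hP : ¬ IsSquare (-(f₂ k₂ k₂ * f₂ k₃ k₃))) {x : GL (Idx 2 4) F} (hx : x ∈ M)
    {B B' : GL (Fin 2) F} (h0 : Act x k₀ B) (h1 : Act x k₁ B') (h2 : Act x k₂ 1) (h3 : Act x k₃ 1) :
    ∃ c : F, ∀ u, (B : Matrix (Fin 2) (Fin 2) F) *ᵥ u = c • u := by
  have hQ := hs.hyper_of_aniso hmin hk hP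
  have hn0 : f₂ k₀ k₀ ≠ 0 := hk.1 0
  have hn1 : f₂ k₁ k₁ ≠ 0 := hk.1 1
  have hn2 : f₂ k₂ k₂ ≠ 0 := hk.1 2
  have hn3 : f₂ k₃ k₃ ≠ 0 := hk.1 3
  have e01 : f₂ k₀ k₁ = 0 := hk.2 0 1 (by decide)
  have e02 : f₂ k₀ k₂ = 0 := hk.2 0 2 (by decide)
  have e03 : f₂ k₀ k₃ = 0 := hk.2 0 3 (by decide)
  have e12 : f₂ k₁ k₂ = 0 := hk.2 1 2 (by decide)
  have e13 : f₂ k₁ k₃ = 0 := hk.2 1 3 (by decide)
  have e23 : f₂ k₂ k₃ = 0 := hk.2 2 3 (by decide)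
  obtain ⟨s₂, s₃, hs23⟩ := exists_sq_add_sq
    (Nat.odd_iff.mpr (FiniteField.odd_card_of_char_ne_two fun h => hs.two (by
      have : CharP F 2 := ringChar.of_eq h
      exact CharTwo.two_eq_zero))) hn2 hn3 (f₂ k₀ k₀)
  obtain ⟨p, hp⟩ : ∃ p, p = s₂ • k₂ + s₃ • k₃ := ⟨_, rfl⟩
  obtain ⟨q, hq⟩ : ∃ q, q = (s₃ * f₂ k₃ k₃) • k₂ + (-(s₂ * f₂ k₂ k₂)) • k₃ := ⟨_, rfl⟩
  have hpv : f₂ p p = f₂ k₀ k₀ := by
    simp only [hp, hs.b2.add_left, hs.b2.add_right, hs.b2.smul_left, hs.b2.smul_right, e23, hs.symm2 k₃ k₂]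
    linear_combination hs23
  have hqv : f₂ q q = f₂ k₂ k₂ * f₂ k₃ k₃ * f₂ k₀ k₀ := by
    simp only [hq, hs.b2.add_left, hs.b2.add_right, hs.b2.smul_left, hs.b2.smul_right, e23, hs.symm2 k₃ k₂]
    linear_combination f₂ k₂ k₂ * f₂ k₃ k₃ * hs23
  have hq0 : f₂ q q ≠ 0 := by rw [hqv]; exact mul_ne_zero (mul_ne_zero hn2 hn3) hn0
  have ep0 : f₂ p k₀ = 0 := by
    simp [hp, hs.b2.add_left, hs.b2.smul_left, hs.symm2 k₂ k₀, hs.symm2 k₃ k₀, e02, e03]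
  have ep1 : f₂ p k₁ = 0 := by
    simp [hp, hs.b2.add_left, hs.b2.smul_left, hs.symm2 k₂ k₁, hs.symm2 k₃ k₁, e12, e13]
  have eq0 : f₂ q k₀ = 0 := by
    simp [hq, hs.b2.add_left, hs.b2.smul_left, bl_neg_left hs.b2, hs.symm2 k₂ k₀, hs.symm2 k₃ k₀, e02, e03]
  have eq1 : f₂ q k₁ = 0 := by
    simp [hq, hs.b2.add_left, hs.b2.smul_left, bl_neg_left hs.b2, hs.symm2 k₂ k₁, hs.symm2 k₃ k₁, e12, e13]
  have epq : f₂ p q = 0 := by
    simp only [hp, hq, hs.b2.add_left, hs.b2.add_right, hs.b2.smul_left, hs.b2.smul_right, e23, hs.symm2 k₃ k₂]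
    ring
  have hxp : ∀ r s : F, Act x (r • k₂ + s • k₃) 1 := fun r s => act_one_iff.mpr fun u => by
    rw [ten_add_right, mulVec_add, act_one_iff.mp (act_smul h2 r), act_one_iff.mp (act_smul h3 s)]
  -- exchange `k₀` and `p`
  have hw : f₂ (k₀ - p) (k₀ - p) ≠ 0 := by
    rw [bl_sub_left hs.b2, bl_sub_right hs.b2, bl_sub_right hs.b2, hpv, ep0, hs.symm2 k₀ p, ep0]
    simpa [← two_mul] using mul_ne_zero hs.two hn0
  set R := rfl' f₂ (k₀ - p) with hR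
  have hR2 : R * R = 1 := hs.rfl2_sq hw
  have hR0 : (R : Matrix (Fin 4) (Fin 4) F) *ᵥ k₀ = p := by
    rw [hR, hs.rfl2_mulVec hw, bl_sub_left hs.b2, bl_sub_right hs.b2, bl_sub_right hs.b2, hpv, ep0,
      hs.symm2 k₀ p, ep0, sub_zero, zero_sub, sub_neg_eq_add, ← two_mul, div_mul_eq_mul_div,
      div_self (mul_ne_zero hs.two hn0), one_smul, sub_sub_cancel]
  have hRp : (R : Matrix (Fin 4) (Fin 4) F) *ᵥ p = k₀ := by
    rw [← hR0, ← gl_mul_mulVec, hR2, Units.val_one, one_mulVec]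
  have hR1 : (R : Matrix (Fin 4) (Fin 4) F) *ᵥ k₁ = k₁ :=
    hs.rfl2_fix hw (by rw [bl_sub_right hs.b2, hs.symm2 k₁ k₀, e01, hs.symm2 k₁ p, ep1, sub_zero])
  have hRq : (R : Matrix (Fin 4) (Fin 4) F) *ᵥ q = q :=
    hs.rfl2_fix hw (by rw [bl_sub_right hs.b2, eq0, hs.symm2 q p, epq, sub_zero])
  have hRM : krG ((1 : GL (Fin 2) F), R) ∈ M := hLM (hs.rflK_mem hw)
  have hxp' : Act x p 1 := hp ▸ hxp _ _
  have hxq' : Act x q 1 := hq ▸ hxp _ _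
  set n := x * (krG ((1 : GL (Fin 2) F), R) * x⁻¹ * krG ((1 : GL (Fin 2) F), R)) with hn
  have hnM : n ∈ M := M.mul_mem hx (M.mul_mem (M.mul_mem hRM (M.inv_mem hx)) hRM)
  have hn_0 : Act n k₀ B := by simpa using act_mul h0 (act_conj hR2 hRp (act_inv hxp'))
  have hn_1 : Act n k₁ 1 := by simpa using act_mul h1 (act_conj hR2 hR1 (act_inv h1))
  have hn_p : Act n p B⁻¹ := by simpa using act_mul hxp' (act_conj hR2 hR0 (act_inv h0))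
  have hn_q : Act n q 1 := by simpa using act_mul hxq' (act_conj hR2 hRq (act_inv hxq'))
  by_cases hc : IsSquare (-(f₂ k₁ k₁ * f₂ q q))
  · exact hs.act_scalar (hs.free_pair hfree hn1 (by rw [hs.symm2, eq1]) hq0 hc hnM hn_1 hn_q) hn1 hn_1 hn0 hn_0
  -- `-1` is a square
  obtain ⟨e, he⟩ := hQ
  have he0 : e ≠ 0 := fun h => mul_ne_zero hn0 hn1 (by rw [h, mul_zero] at he; exact neg_eq_zero.mp he)
  have hn23 : ¬ IsSquare (f₂ k₂ k₂ * f₂ k₃ k₃) := fun ⟨r, hr⟩ => hc ⟨e * r, by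
    rw [hqv, hr]; linear_combination r * r * he⟩
  obtain ⟨i, hi⟩ : IsSquare (-1 : F) := by
    obtain ⟨r, hr⟩ := CfsgLib.Forms.isSquare_mul_of_not_isSquare hP hn23
    exact ⟨r / (f₂ k₂ k₂ * f₂ k₃ k₃), by field_simp; linear_combination hr⟩
  set μ := i * f₂ k₀ k₀ / e with hμ
  have hμv : f₂ (μ • k₁) (μ • k₁) = f₂ k₀ k₀ := by
    rw [hs.b2.smul_left, hs.b2.smul_right, hμ]
    field_simp
    linear_combination he - f₂ k₀ k₀ * f₂ k₁ k₁ * hi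
  set k₁' := μ • k₁ with hk₁'
  have e01' : f₂ k₀ k₁' = 0 := by rw [hs.b2.smul_right, e01, mul_zero]
  have hw2 : f₂ (k₀ - k₁') (k₀ - k₁') ≠ 0 := by
    rw [bl_sub_left hs.b2, bl_sub_right hs.b2, bl_sub_right hs.b2, hμv, e01', hs.symm2 k₁' k₀, e01']
    simpa [← two_mul] using mul_ne_zero hs.two hn0
  set R' := rfl' f₂ (k₀ - k₁') with hR'
  have hR'2 : R' * R' = 1 := hs.rfl2_sq hw2
  have hR'0 : (R' : Matrix (Fin 4) (Fin 4) F) *ᵥ k₀ = k₁' := by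
    rw [hR', hs.rfl2_mulVec hw2, bl_sub_left hs.b2, bl_sub_right hs.b2, bl_sub_right hs.b2, hμv, e01',
      hs.symm2 k₁' k₀, e01', sub_zero, zero_sub, sub_neg_eq_add, ← two_mul, div_mul_eq_mul_div,
      div_self (mul_ne_zero hs.two hn0), one_smul, sub_sub_cancel]
  have hR'1 : (R' : Matrix (Fin 4) (Fin 4) F) *ᵥ k₁' = k₀ := by
    rw [← hR'0, ← gl_mul_mulVec, hR'2, Units.val_one, one_mulVec]
  have hR'p : (R' : Matrix (Fin 4) (Fin 4) F) *ᵥ p = p := hs.rfl2_fix hw2 (by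
    rw [bl_sub_right hs.b2, ep0, hk₁', hs.b2.smul_right, ep1, mul_zero, sub_zero])
  have hR'M : krG ((1 : GL (Fin 2) F), R') ∈ M := hLM (hs.rflK_mem hw2)
  set n' := krG ((1 : GL (Fin 2) F), R') * n * krG ((1 : GL (Fin 2) F), R') with hn'
  have hn'M : n' ∈ M := M.mul_mem (M.mul_mem hR'M hnM) hR'M
  have hn'0 : Act n' k₀ 1 := act_conj hR'2 hR'1 (act_smul hn_1 μ)
  have hn'1 : Act n' k₁' B := act_conj hR'2 hR'0 hn_0
  have hn'p : Act n' p B⁻¹ := act_conj hR'2 hR'p hn_p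
  have hBi : B ∈ isom f₁ := fun u v => by
    have h := hM hx (ten u k₀) (ten v k₀)
    rw [h0, h0, hs.form_ten_ten, hs.form_ten_ten] at h
    exact mul_right_cancel₀ hn0 h
  refine hs.plane_comm_scalar hi.symm hBi fun u t => ?_
  set S := ctv f₁ u t with hS
  set K := krG (S, (1 : GL (Fin 4) F)) with hK
  have hKM : K ∈ M := hLM (hs.krG_mem (hs.ctv1_mem u t) (Subgroup.one_mem _))
  set n₂ := K * n' * K⁻¹ with hn₂
  have hn₂M : n₂ ∈ M := M.mul_mem (M.mul_mem hKM hn'M) (M.inv_mem hKM)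
  have hn₂_act : ∀ k A, Act n' k A → Act n₂ k (S * A * S⁻¹) := fun k A h =>
    act_mul (act_mul (act_kron_left S k) h) (act_inv (act_kron_left S k))
  set m := n * n₂ * n⁻¹ * n₂⁻¹ with hm
  have hmM : m ∈ M := M.mul_mem (M.mul_mem (M.mul_mem hnM hn₂M) (M.inv_mem hnM)) (M.inv_mem hn₂M)
  have hm_act : ∀ k A A', Act n k A → Act n₂ k A' → Act m k (A * A' * A⁻¹ * A'⁻¹) := fun k A A' h h' =>
    act_mul (act_mul (act_mul h h') (act_inv h)) (act_inv h')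
  have hm0 : Act m k₀ 1 := by simpa using hm_act k₀ _ _ hn_0 (hn₂_act k₀ _ hn'0)
  have hm1 : Act m k₁' 1 := by simpa using hm_act k₁' _ _ (act_smul hn_1 μ) (hn₂_act k₁' _ hn'1)
  have hmp := hm_act p _ _ hn_p (hn₂_act p _ hn'p)
  have hμ0 : f₂ k₁' k₁' ≠ 0 := by rw [hμv]; exact hn0
  have hmL : m ∈ 𝕃 := hs.free_pair hfree hn0 e01' hμ0
    ⟨i * f₂ k₀ k₀, by rw [hμv]; linear_combination f₂ k₀ k₀ * f₂ k₀ k₀ * hi⟩ hmM hm0 hm1
  obtain ⟨ε, hε⟩ := hs.act_scalar hmL hn0 hm0 (by rw [hpv]; exact hn0) hmp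
  refine ⟨ε, ?_⟩
  set C := S * B * S⁻¹ with hC
  have e := hε u
  rw [show S * B⁻¹ * S⁻¹ = C⁻¹ by rw [hC]; group, inv_inv, inv_inv] at e
  simp only [gl_mul_mulVec, gl_inv_mulVec] at e
  have e' := congrArg (fun z => (C : Matrix (Fin 2) (Fin 2) F) *ᵥ ((B : Matrix (Fin 2) (Fin 2) F) *ᵥ z)) e
  simp only [gl_mulVec_inv, mulVec_smul] at e'
  exact e'

end Setting

end CfsgLib.TensorSympOrth
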