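import Cfsg.Agent.TensorMinus.End

/-!
# Symplectic plane ⊗ minus type: the contradiction for two fixed slices
-/

set_option autoImplicit false
set_option linter.unusedSectionVars false

namespace CfsgLib.TensorSympOrth

open Matrix Cfsg.Geo CfsgLib.MaxSub CfsgLib.TensorMax
open CfsgLib.TensorUnitary (form ev isom pMat rowsIn)
open scoped Kronecker

variable {F : Type*} [Field F]

namespace Setting

variable {f₁ : (Fin 2 → F) → (Fin 2 → F) → F} {f₂ : (Fin 4 → F) → (Fin 4 → F) → F}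
  (hs : Setting f₁ f₂) {M : Subgroup (GL (Idx 2 4) F)} [Fintype F]
include hs

local notation "Φ" => form f₁ f₂
local notation "𝕃" => tensSO f₁ f₂

/-- An element fixing two slices has no component there on the others. -/
theorem ev_fixed (hM : M ≤ isom Φ) {x : GL (Idx 2 4) F} (hx : x ∈ M) {k h : Fin 4 → F} (hh : Act x h 1)
    (hkh : f₂ k h = 0) (u : Fin 2 → F) :
    ev f₂ h ((x : Matrix (Idx 2 4) (Idx 2 4) F) *ᵥ ten u k) = 0 :=
  hs.eq_of_forall1 fun z => by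
    rw [← hs.form_ten_right, ← act_one_iff.mp hh z, hM hx, hs.form_ten_ten, hkh, mul_zero,
      bl_zero_left hs.b1]

/-- The two coefficient maps of an element fixing two slices. -/
theorem exists_blocks (hM : M ≤ isom Φ) {k₀ k₁ k₂ k₃ : Fin 4 → F} (hk : IsOrth f₂ ![k₀, k₁, k₂, k₃])
    {x : GL (Idx 2 4) F} (hx : x ∈ M) (h2 : Act x k₂ 1) (h3 : Act x k₃ 1) {k : Fin 4 → F}
    (hk2 : f₂ k k₂ = 0) (hk3 : f₂ k k₃ = 0) :
    ∃ A C : (Fin 2 → F) →ₗ[F] (Fin 2 → F),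
      ∀ u, (x : Matrix (Idx 2 4) (Idx 2 4) F) *ᵥ ten u k = ten (A u) k₀ + ten (C u) k₁ := by
  let mk : (Fin 4 → F) → (Fin 2 → F) →ₗ[F] (Fin 2 → F) := fun h =>
    { toFun := fun u => (f₂ h h)⁻¹ • ev f₂ h ((x : Matrix (Idx 2 4) (Idx 2 4) F) *ᵥ ten u k)
      map_add' := fun u v => by rw [ten_add_left, mulVec_add, hs.ev_add, smul_add]
      map_smul' := fun c u => by rw [ten_smul_left, mulVec_smul, hs.ev_smul, smul_comm, RingHom.id_apply] }
  refine ⟨mk k₀, mk k₁, fun u => (hs.slice_sum hk _).trans ?_⟩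
  rw [hs.ev_fixed hM hx h2 hk2, hs.ev_fixed hM hx h3 hk3, smul_zero, smul_zero, ten_zero_left, ten_zero_left,
    add_zero, add_zero]
  rfl

variable (hmin : NoIsoPlane f₂) (hLM : tensSO f₁ f₂ ≤ M) (hM : M ≤ isom (form f₁ f₂))
  (hfree : FreeIso f₁ f₂ M)
include hmin hLM hM hfree

/-- The map of a slice to a slice is a scalar. -/
theorem slice_map_scalar {k₀ k₁ φ φ' k₂ k₃ : Fin 4 → F} (hφ : IsOrth f₂ ![φ, φ', k₂, k₃])
    (hP : ¬ IsSquare (-(f₂ k₂ k₂ * f₂ k₃ k₃))) {x : GL (Idx 2 4) F} (hx : x ∈ M) (h2 : Act x k₂ 1)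
    (h3 : Act x k₃ 1) {A A' : GL (Fin 2) F}
    (hA : ∀ u, (x : Matrix (Idx 2 4) (Idx 2 4) F) *ᵥ ten u k₀ = ten ((A : Matrix (Fin 2) (Fin 2) F) *ᵥ u) φ)
    (hA' : ∀ u, (x : Matrix (Idx 2 4) (Idx 2 4) F) *ᵥ ten u k₁ = ten ((A' : Matrix (Fin 2) (Fin 2) F) *ᵥ u) φ') :
    ∃ c : F, ∀ u, (A : Matrix (Fin 2) (Fin 2) F) *ᵥ u = c • u := by
  refine hs.plane_ctv_scalar A fun u => ?_
  set S := ctv f₁ u 1 with hS
  set K := krG (S, (1 : GL (Fin 4) F)) with hK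
  have hKM : K ∈ M := hLM (hs.krG_mem (hs.ctv1_mem u 1) (Subgroup.one_mem _))
  set m := x * K * x⁻¹ * K⁻¹ with hm
  have hmM : m ∈ M := M.mul_mem (M.mul_mem (M.mul_mem hx hKM) (M.inv_mem hx)) (M.inv_mem hKM)
  have hfix : ∀ k, Act x k 1 → Act m k 1 := fun k hk => by
    simpa using act_mul (act_mul (act_mul hk (act_kron_left S k)) (act_inv hk)) (act_inv (act_kron_left S k))
  have hgen : ∀ (k ψ : Fin 4 → F) (X : GL (Fin 2) F),
      (∀ u, (x : Matrix (Idx 2 4) (Idx 2 4) F) *ᵥ ten u k = ten ((X : Matrix (Fin 2) (Fin 2) F) *ᵥ u) ψ) →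
      Act m ψ (X * S * X⁻¹ * S⁻¹) := by
    intro k ψ X hX
    have h1 : Act (x * K * x⁻¹) ψ (X * S * X⁻¹) := fun w => by
      have e : ((x⁻¹ : GL (Idx 2 4) F) : Matrix (Idx 2 4) (Idx 2 4) F) *ᵥ ten w ψ
          = ten (((X⁻¹ : GL (Fin 2) F) : Matrix (Fin 2) (Fin 2) F) *ᵥ w) k :=
        gl_mulVec_inj x (by rw [gl_mulVec_inv, hX, gl_mulVec_inv])
      simp only [gl_mul_mulVec, e, act_kron_left S k _, hK, hX]
    exact act_mul h1 (act_inv (act_kron_left S ψ))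
  obtain ⟨ε, hε⟩ := hs.diag_scalar hmin hLM hM hfree hφ hP hmM (hgen k₀ φ A hA) (hgen k₁ φ' A' hA') (hfix k₂ h2)
    (hfix k₃ h3)
  refine ⟨ε, ?_⟩
  have e := hε ((S : Matrix (Fin 2) (Fin 2) F) *ᵥ ((A : Matrix (Fin 2) (Fin 2) F) *ᵥ u))
  simp only [gl_mul_mulVec, gl_inv_mulVec] at e
  rw [show (S : Matrix (Fin 2) (Fin 2) F) *ᵥ u = u by
    rw [hS, hs.ctv1_mulVec, hs.alt1, mul_zero, zero_smul, add_zero]] at e
  exact e

/-- An element fixing two slices and mapping a slice to a slice lies in the stabiliser. -/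
theorem mem_of_slice_map {k₀ k₁ k₂ k₃ : Fin 4 → F} (hk : IsOrth f₂ ![k₀, k₁, k₂, k₃])
    (hP : ¬ IsSquare (-(f₂ k₂ k₂ * f₂ k₃ k₃))) {x : GL (Idx 2 4) F} (hx : x ∈ M) (h2 : Act x k₂ 1)
    (h3 : Act x k₃ 1) (A : (Fin 2 → F) →ₗ[F] (Fin 2 → F)) {φ : Fin 4 → F} (hφ : f₂ φ φ ≠ 0)
    (hφ2 : f₂ φ k₂ = 0) (hφ3 : f₂ φ k₃ = 0)
    (hA : ∀ u, (x : Matrix (Idx 2 4) (Idx 2 4) F) *ᵥ ten u k₀ = ten (A u) φ) : x ∈ 𝕃 := by
  have hn1 : f₂ k₁ k₁ ≠ 0 := hk.1 1
  have hk12 : f₂ k₁ k₂ = 0 := hk.2 1 2 (by decide)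
  have hk13 : f₂ k₁ k₃ = 0 := hk.2 1 3 (by decide)
  have h23 : f₂ k₂ k₃ = 0 := hk.2 2 3 (by decide)
  have h01 : f₂ k₀ k₁ = 0 := hk.2 0 1 (by decide)
  have hn0 : f₂ k₀ k₀ ≠ 0 := hk.1 0
  have hk00 : k₀ ≠ 0 := fun h => hn0 (by rw [h, bl_zero_left hs.b2])
  have hAinj : Function.Injective A := fun u v huv => by
    refine ten_inj_left hk00 (gl_mulVec_inj x ?_)
    rw [hA, hA]
    exact congrArg (ten · φ) huv
  obtain ⟨φ', hφ'0, hφ'p⟩ := hs.exists_aniso_perp (p := ![φ, k₂, k₃]) ⟨fun i => by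
    fin_cases i
    · exact hφ
    · exact hk.1 2
    · exact hk.1 3, fun i j hij => by
    fin_cases i <;> fin_cases j <;> first
      | exact absurd rfl hij
      | exact hφ2
      | exact hφ3
      | exact h23
      | (rw [hs.symm2]; first | exact hφ2 | exact hφ3 | exact h23)⟩ (by norm_num)
  have e0 : f₂ φ' φ = 0 := hφ'p 0
  have e2 : f₂ φ' k₂ = 0 := hφ'p 1
  have e3 : f₂ φ' k₃ = 0 := hφ'p 2
  have hbasis := hs.orth4 hφ hφ'0 (hk.1 2) (hk.1 3) (by rw [hs.symm2]; exact e0) hφ2 hφ3 e2 e3 h23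
  obtain ⟨R, A', hA'⟩ := hs.exists_blocks hM hbasis hx h2 h3 hk12 hk13
  have hR : ∀ u, R u = 0 := fun u => by
    have h := fun z => hM hx (ten u k₁) (ten z k₀)
    simp only [hA', hA, hs.bf.add_left, hs.form_ten_ten, hs.symm2 k₁ k₀, h01, e0, mul_zero, add_zero] at h
    refine hs.eq_of_forall1 fun z => ?_
    obtain ⟨z', rfl⟩ := LinearMap.surjective_of_injective hAinj z
    rw [bl_zero_left hs.b1]
    exact (mul_eq_zero.mp (h z')).resolve_right hφ
  have hA'' : ∀ u, (x : Matrix (Idx 2 4) (Idx 2 4) F) *ᵥ ten u k₁ = ten (A' u) φ' := fun u => by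
    rw [hA', hR, ten_zero_left, zero_add]
  have hk10 : k₁ ≠ 0 := fun h => hn1 (by rw [h, bl_zero_left hs.b2])
  have hA'inj : Function.Injective A' := fun u v huv => by
    refine ten_inj_left hk10 (gl_mulVec_inj x ?_)
    rw [hA'', hA'']
    exact congrArg (ten · φ') huv
  obtain ⟨GA, hGA⟩ := exists_gl_of_linear A hAinj
  obtain ⟨GA', hGA'⟩ := exists_gl_of_linear A' hA'inj
  obtain ⟨c, hc⟩ := hs.slice_map_scalar hmin hLM hM hfree (k₀ := k₀) (k₁ := k₁) hbasis hP hx h2 h3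
    (fun u => by rw [hGA]; exact hA u) fun u => by rw [hGA']; exact hA'' u
  obtain ⟨c', hc'⟩ := hs.slice_map_scalar hmin hLM hM hfree (k₀ := k₁) (k₁ := k₀)
    (hs.orth4 hφ'0 hφ (hk.1 2) (hk.1 3) e0 e2 e3 hφ2 hφ3 h23) hP hx h2 h3
    (fun u => by rw [hGA']; exact hA'' u) fun u => by rw [hGA]; exact hA u
  refine hs.mem_of_slices (by norm_num) (hM hx) hk LinearMap.id Function.injective_id fun j => ?_
  fin_cases j
  · exact ⟨c • φ, fun u => (hA u).trans (by rw [← hGA, hc, ten_smul_left, ten_smul_right]; rfl)⟩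
  · exact ⟨c' • φ', fun u => (hA'' u).trans (by rw [← hGA', hc', ten_smul_left, ten_smul_right]; rfl)⟩
  · exact ⟨k₂, fun u => act_one_iff.mp h2 u⟩
  · exact ⟨k₃, fun u => act_one_iff.mp h3 u⟩

/-- An involution fixing two slices lies in the stabiliser. -/
theorem invol_mem {k₀ k₁ k₂ k₃ : Fin 4 → F} (hk : IsOrth f₂ ![k₀, k₁, k₂, k₃])
    (hP : ¬ IsSquare (-(f₂ k₂ k₂ * f₂ k₃ k₃))) {z : GL (Idx 2 4) F} (hz : z ∈ M) (h2 : Act z k₂ 1)
    (h3 : Act z k₃ 1) (hz2 : z * z = 1) : z ∈ 𝕃 := by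
  have hn0 : f₂ k₀ k₀ ≠ 0 := hk.1 0
  have hn1 : f₂ k₁ k₁ ≠ 0 := hk.1 1
  have e01 : f₂ k₀ k₁ = 0 := hk.2 0 1 (by decide)
  have e02 : f₂ k₀ k₂ = 0 := hk.2 0 2 (by decide)
  have e03 : f₂ k₀ k₃ = 0 := hk.2 0 3 (by decide)
  have e12 : f₂ k₁ k₂ = 0 := hk.2 1 2 (by decide)
  have e13 : f₂ k₁ k₃ = 0 := hk.2 1 3 (by decide)
  have e10 : f₂ k₁ k₀ = 0 := by rw [hs.symm2, e01]
  obtain ⟨A, C, hA⟩ := hs.exists_blocks hM hk hz h2 h3 e02 e03
  obtain ⟨B, D, hB⟩ := hs.exists_blocks hM hk hz h2 h3 e12 e13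
  have hzz : ∀ v, (z : Matrix (Idx 2 4) (Idx 2 4) F) *ᵥ ((z : Matrix (Idx 2 4) (Idx 2 4) F) *ᵥ v) = v :=
    fun v => by rw [← gl_mul_mulVec, hz2, Units.val_one, one_mulVec]
  have hadj : ∀ v w, Φ ((z : Matrix (Idx 2 4) (Idx 2 4) F) *ᵥ v) w = Φ v ((z : Matrix (Idx 2 4) (Idx 2 4) F) *ᵥ w) :=
    fun v w => by conv_lhs => rw [← hzz w, hM hz]
  obtain ⟨a, ha⟩ := hs.plane_symm A fun u v => by
    have h := hadj (ten u k₀) (ten v k₀)
    simp only [hA, hs.bf.add_left, hs.bf.add_right, hs.form_ten_ten, e01, e10, mul_zero, add_zero] at h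
    exact mul_right_cancel₀ hn0 h
  obtain ⟨d, hd⟩ := hs.plane_symm D fun u v => by
    have h := hadj (ten u k₁) (ten v k₁)
    simp only [hB, hs.bf.add_left, hs.bf.add_right, hs.form_ten_ten, e01, e10, mul_zero, zero_add] at h
    exact mul_right_cancel₀ hn1 h
  have hBC : ∀ u v, f₁ u (B v) * f₂ k₀ k₀ = f₁ (C u) v * f₂ k₁ k₁ := fun u v => by
    have h := hadj (ten u k₀) (ten v k₁)
    simp only [hA, hB, hs.bf.add_left, hs.bf.add_right, hs.form_ten_ten, e01, mul_zero, zero_add, add_zero] at h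
    exact h.symm
  have hev : ∀ {p q p' q' : Fin 2 → F}, (ten p k₀ + ten q k₁ : Idx 2 4 → F) = ten p' k₀ + ten q' k₁ →
      p = p' ∧ q = q' := by
    intro p q p' q' h
    have h1 := congrArg (ev f₂ k₀) h
    have h2 := congrArg (ev f₂ k₁) h
    simp only [hs.ev_add, hs.ev_ten, e01, e10, zero_smul, add_zero, zero_add] at h1 h2
    exact ⟨smul_right_injective _ hn0 h1, smul_right_injective _ hn1 h2⟩
  have hsq0 : ∀ u, (a * a) • u + B (C u) = u ∧ (a + d) • C u = 0 := fun u => by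
    refine hev (q' := 0) ?_
    have h := hzz (ten u k₀)
    simp only [hA, ha, mulVec_add, map_smul, hB, hd] at h
    rw [ten_zero_left, add_zero, ← h]
    simp only [ten_add_left, ten_smul_left, smul_smul, add_smul]
    module
  have hsq1 : ∀ v, (a + d) • B v = 0 ∧ C (B v) + (d * d) • v = v := fun v => by
    refine hev (p' := 0) ?_
    have h := hzz (ten v k₁)
    simp only [hB, hd, mulVec_add, map_smul, hA, ha] at h
    rw [ten_zero_left, zero_add, ← h]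
    simp only [ten_add_left, ten_smul_left, smul_smul, add_smul]
    module
  by_cases hC : ∀ u, f₁ (C u) u = 0
  · obtain ⟨c, hc⟩ := hs.plane_eigen C hC
    have hBv : ∀ v, B v = (c * f₂ k₁ k₁ / f₂ k₀ k₀) • v := fun v => hs.eq_of_forall1 fun u => by
      have h := hBC u v
      rw [hc, hs.b1.smul_left] at h
      rw [hs.skew1, hs.b1.smul_left, hs.skew1 v u, div_mul_eq_mul_div, eq_div_iff hn0]
      linear_combination -h
    refine hs.mem_of_slices (by norm_num) (hM hz) hk LinearMap.id Function.injective_id fun j => ?_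
    fin_cases j
    · exact ⟨a • k₀ + c • k₁, fun u => (hA u).trans (by
        rw [ha, hc, ten_smul_left, ten_smul_left, ten_add_right, ten_smul_right, ten_smul_right]; rfl)⟩
    · exact ⟨(c * f₂ k₁ k₁ / f₂ k₀ k₀) • k₀ + d • k₁, fun u => (hB u).trans (by
        rw [hBv, hd, ten_smul_left, ten_smul_left, ten_add_right, ten_smul_right, ten_smul_right]; rfl)⟩
    · exact ⟨k₂, fun u => act_one_iff.mp h2 u⟩
    · exact ⟨k₃, fun u => act_one_iff.mp h3 u⟩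
  exfalso
  push Not at hC
  obtain ⟨u, hu⟩ := hC
  obtain ⟨w, hw⟩ : ∃ w, C u = w := ⟨_, rfl⟩
  rw [hw] at hu
  have hc : f₁ u w ≠ 0 := by rw [hs.skew1]; exact neg_ne_zero.mpr hu
  have hda : d = -a := by
    have h := (hsq0 u).2
    rw [hw, smul_eq_zero] at h
    refine eq_neg_of_add_eq_zero_right (h.resolve_right fun h0 => hu ?_)
    rw [h0, bl_zero_left hs.b1]
  obtain ⟨γ, τ, hCw⟩ : ∃ γ τ : F, C w = γ • u + τ • w := ⟨_, _, hs.plane_decomp hc (C w)⟩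
  set κ := f₂ k₁ k₁ / f₂ k₀ k₀ with hκ
  have hκn : κ * f₂ k₀ k₀ = f₂ k₁ k₁ := div_mul_cancel₀ _ hn0
  have hBf : ∀ x v, f₁ x (B v) = κ * f₁ (C x) v := fun x v => mul_right_cancel₀ hn0 (by
    rw [hBC, mul_right_comm, hκn, mul_comm])
  have hBu : B u = (κ * τ) • u + (-κ) • w := by
    rw [hs.plane_decomp hc (B u)]
    congr 2
    · rw [hs.skew1, hBf, hCw, hs.b1.add_left, hs.b1.smul_left, hs.b1.smul_left, hs.alt1, hs.skew1 w u]
      field_simp
      ring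
    · rw [hBf, hw, hs.skew1 w u]
      field_simp
  have hBw : B w = (-(κ * γ)) • u := by
    rw [hs.plane_decomp hc (B w)]
    rw [hBf u w, hw, hs.alt1, mul_zero, zero_div, zero_smul, add_zero]
    congr 1
    rw [hs.skew1, hBf, hCw, hs.b1.add_left, hs.b1.smul_left, hs.b1.smul_left, hs.alt1]
    field_simp
    ring
  have hu0 : u ≠ 0 := fun h => hu (by rw [h, bl_zero_right hs.b1])
  have hγ : -(κ * γ) = 1 - a * a := by
    have h := (hsq0 u).1
    rw [hw, hBw, ← add_smul] at h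
    have h2 : (a * a + -(κ * γ) - 1) • u = 0 := by rw [sub_smul, one_smul, h, sub_self]
    linear_combination (smul_eq_zero.mp h2).resolve_right hu0
  -- the transvection
  obtain ⟨e, he⟩ := hs.hyper_of_aniso hmin hk hP
  obtain ⟨m, hm⟩ : ∃ m, m = e / f₂ k₁ k₁ := ⟨_, rfl⟩
  have hκm : κ * (m * m) = -1 := by
    rw [hκ, hm]
    field_simp
    linear_combination -he
  obtain ⟨k, hk'⟩ : ∃ k, k = m / f₁ u w := ⟨_, rfl⟩
  have hkm : k * f₁ u w = m := by rw [hk', div_mul_cancel₀ _ hc]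
  have hS : ∀ x, (ctv f₁ u k : Matrix (Fin 2) (Fin 2) F) *ᵥ x = x + (k * f₁ x u) • u := hs.ctv1_mulVec u k
  have hSi : ∀ x, (((ctv f₁ u k)⁻¹ : GL (Fin 2) F) : Matrix (Fin 2) (Fin 2) F) *ᵥ x = x - (k * f₁ x u) • u :=
    fun x => by
    refine gl_mulVec_inj (ctv f₁ u k) ?_
    rw [gl_mulVec_inv, hS, bl_sub_left hs.b1, hs.b1.smul_left, hs.alt1, mul_zero, sub_zero, sub_add_cancel]
  let conjS : ((Fin 2 → F) →ₗ[F] (Fin 2 → F)) → ((Fin 2 → F) →ₗ[F] (Fin 2 → F)) := fun L =>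
    (ctv f₁ u k : Matrix (Fin 2) (Fin 2) F).mulVecLin.comp
      (L.comp (((ctv f₁ u k)⁻¹ : GL (Fin 2) F) : Matrix (Fin 2) (Fin 2) F).mulVecLin)
  have hconjS : ∀ L x, conjS L x = (ctv f₁ u k : Matrix (Fin 2) (Fin 2) F) *ᵥ
      L ((((ctv f₁ u k)⁻¹ : GL (Fin 2) F) : Matrix (Fin 2) (Fin 2) F) *ᵥ x) := fun _ _ => rfl
  have hfwu : f₁ w u = -f₁ u w := hs.skew1 w u
  have hC'u : conjS C u = w - m • u := by
    rw [hconjS, hSi, hs.alt1, mul_zero, zero_smul, sub_zero, hw, hS, hfwu, ← hkm]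
    module
  have hC'w : conjS C w = (γ - m * τ - m * m) • u + (τ + m) • w := by
    rw [hconjS, hSi, map_sub, map_smul, hCw, hw, hS]
    simp only [bl_sub_left hs.b1, hs.b1.add_left, hs.b1.smul_left, hs.alt1, hfwu]
    rw [← hkm]
    module
  have hB'u : conjS B u = (κ * (τ + m)) • u + (-κ) • w := by
    rw [hconjS, hSi, hs.alt1, mul_zero, zero_smul, sub_zero, hBu, hS]
    simp only [hs.b1.add_left, hs.b1.smul_left, hs.alt1, hfwu]
    rw [← hkm]
    module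
  have hB'w : conjS B w = (κ * (-γ + m * τ + m * m)) • u + (-(m * κ)) • w := by
    rw [hconjS, hSi, map_sub, map_smul, hBw, hBu, hS]
    simp only [bl_sub_left hs.b1, hs.b1.add_left, hs.b1.smul_left, hs.alt1, hfwu]
    rw [← hkm]
    module
  -- the identity
  set π := 1 - 2 * (a * a) with hπ
  have hid : ∀ v, conjS B (C v) + B (conjS C v) = π • v := by
    have hπ' : κ * (-2 * γ + m * m) = π := by rw [hπ]; linear_combination 2 * hγ + hκm
    refine fun v => hs.plane_ext hc (L := (conjS B).comp C + B.comp (conjS C)) (L' := π • LinearMap.id) ?_ ?_ v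
    · show conjS B (C u) + B (conjS C u) = π • u
      rw [hw, hB'w, hC'u, map_sub, map_smul, hBw, hBu, ← hπ']
      module
    · show conjS B (C w) + B (conjS C w) = π • w
      rw [hCw, map_add, map_smul, map_smul, hB'u, hB'w, hC'w, map_add, map_smul, map_smul, hBw, hBu, ← hπ']
      module
  -- the conjugate of the involution
  set S := ctv f₁ u k with hSdef
  set K := krG (S, (1 : GL (Fin 4) F)) with hK
  have hKM : K ∈ M := hLM (hs.krG_mem (hs.ctv1_mem u k) (Subgroup.one_mem _))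
  set z' := K * z * K⁻¹ with hz'
  have hz'M : z' ∈ M := M.mul_mem (M.mul_mem hKM hz) (M.inv_mem hKM)
  have hfix : ∀ q, Act z q 1 → Act z' q 1 := fun q hq => by
    simpa using act_mul (act_mul (act_kron_left S q) hq) (act_inv (act_kron_left S q))
  have hK0 : ∀ (v : Fin 2 → F) (q : Fin 4 → F), ((K⁻¹ : GL (Idx 2 4) F) : Matrix (Idx 2 4) (Idx 2 4) F) *ᵥ ten v q
      = ten (((S⁻¹ : GL (Fin 2) F) : Matrix (Fin 2) (Fin 2) F) *ᵥ v) q := fun v q =>
    act_inv (act_kron_left S q) v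
  have hKv : ∀ (v : Fin 2 → F) (q : Fin 4 → F), (K : Matrix (Idx 2 4) (Idx 2 4) F) *ᵥ ten v q
      = ten ((S : Matrix (Fin 2) (Fin 2) F) *ᵥ v) q := fun v q => act_kron_left S q v
  have hz'0 : ∀ v, (z' : Matrix (Idx 2 4) (Idx 2 4) F) *ᵥ ten v k₀ = ten (a • v) k₀ + ten (conjS C v) k₁ :=
    fun v => by
      rw [hz', gl_mul_mulVec, gl_mul_mulVec, hK0, hA, mulVec_add, hKv, hKv, ha, mulVec_smul, gl_mulVec_inv]
      rfl
  have hz'1 : ∀ v, (z' : Matrix (Idx 2 4) (Idx 2 4) F) *ᵥ ten v k₁ = ten (conjS B v) k₀ + ten (d • v) k₁ :=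
    fun v => by
      rw [hz', gl_mul_mulVec, gl_mul_mulVec, hK0, hB, mulVec_add, hKv, hKv, hd, mulVec_smul, gl_mulVec_inv]
      rfl
  set z₃ := z * z' * z with hz₃
  have hz₃M : z₃ ∈ M := M.mul_mem (M.mul_mem hz hz'M) hz
  have h32 : Act z₃ k₂ 1 := by simpa using act_mul (act_mul h2 (hfix k₂ h2)) h2
  have h33 : Act z₃ k₃ 1 := by simpa using act_mul (act_mul h3 (hfix k₃ h3)) h3
  have hCB : ∀ v, C (B v) = (1 - a * a) • v := fun v => by
    have h := (hsq1 v).2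
    rw [hda] at h
    linear_combination (norm := module) h
  have hBC' : ∀ v, B (C v) = (1 - a * a) • v := fun v => by
    linear_combination (norm := module) (hsq0 v).1
  have hval : ∀ v, (z₃ : Matrix (Idx 2 4) (Idx 2 4) F) *ᵥ ten v k₀ = ten (C v - conjS C v) k₁ := by
    intro v
    obtain ⟨p, hp⟩ : ∃ p, p = (a * a) • v + conjS B (C v) := ⟨_, rfl⟩
    have hCp : C p = (1 - a * a) • C v - C (B (conjS C v)) := by
      rw [hp, map_add, map_smul, show conjS B (C v) = π • v - B (conjS C v) from eq_sub_of_add_eq (hid v),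
        map_sub, map_smul, hπ]
      module
    rw [hCB] at hCp
    have hBp : B (a • (conjS C v - C v)) = a • B (conjS C v) - (a * (1 - a * a)) • v := by
      rw [map_smul, map_sub, hBC']
      module
    have hz'z : (z' : Matrix (Idx 2 4) (Idx 2 4) F) *ᵥ ((z : Matrix (Idx 2 4) (Idx 2 4) F) *ᵥ ten v k₀)
        = ten p k₀ + ten (a • (conjS C v - C v)) k₁ := by
      rw [hA, mulVec_add, hz'0, hz'1, ha, hda, map_smul, hp]
      simp only [ten_add_left, ten_sub_left, ten_smul_left, smul_smul, smul_sub]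
      module
    rw [hz₃, gl_mul_mulVec, gl_mul_mulVec, hz'z, mulVec_add, hA, hB, ha, hd, hBp, hCp, hda, hp,
      show conjS B (C v) = π • v - B (conjS C v) from eq_sub_of_add_eq (hid v), hπ]
    simp only [ten_add_left, ten_sub_left, ten_smul_left, smul_smul, smul_sub, smul_add]
    module
  have hz₃L : z₃ ∈ 𝕃 := hs.mem_of_slice_map hmin hLM hM hfree hk hP hz₃M h32 h33 (C - conjS C) hn1 e12 e13
    fun v => hval v
  obtain ⟨T, -, hT, -⟩ := hs.eq_one_kron (by norm_num) hz₃L (fun h => hk.1 2 (by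
    show f₂ k₂ k₂ = 0; rw [h, bl_zero_left hs.b2])) (act_one_iff.mp h32)
  obtain ⟨σ, hσ⟩ : ∃ σ : F, ∀ v, C v - conjS C v = σ • v :=
    ⟨f₂ ((T : Matrix (Fin 4) (Fin 4) F) *ᵥ k₀) k₁ / f₂ k₁ k₁, fun v => by
      have h1 := congrArg (ev f₂ k₁) (hval v)
      rw [hT, krG_val, Units.val_one, kron_mulVec_ten, one_mulVec, hs.ev_ten, hs.ev_ten] at h1
      rw [div_eq_inv_mul, mul_smul, h1, smul_smul, inv_mul_cancel₀ hn1, one_smul]⟩
  have h1 := congrArg (fun x => f₁ x w) (hσ u)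
  have h2' := congrArg (fun x => f₁ u x) (hσ w)
  simp only [hw, hC'u, hC'w, hCw, bl_sub_left hs.b1, bl_sub_right hs.b1, hs.b1.add_right, hs.b1.smul_left,
    hs.b1.smul_right, hs.alt1] at h1 h2'
  have hm0 : m ≠ 0 := fun h => by rw [h, mul_zero, mul_zero, zero_eq_neg] at hκm; exact one_ne_zero hκm
  exact mul_ne_zero (mul_ne_zero hs.two hm0) hc (by linear_combination h1 - h2')

/-- No outside element fixes two slices spanning an anisotropic plane. -/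
theorem two_slices {p : Fin 2 → Fin 4 → F} (hp : IsOrth f₂ p) {y : GL (Idx 2 4) F} (hyM : y ∈ M)
    (hy : y ∈ fixF p) : y ∈ 𝕃 := by
  have hp01 : f₂ (p 0) (p 1) = 0 := hp.2 0 1 (by decide)
  have h2 : Act y (p 0) 1 := act_one_iff.mpr (hy 0)
  have h3 : Act y (p 1) 1 := act_one_iff.mpr (hy 1)
  by_cases hP : IsSquare (-(f₂ (p 0) (p 0) * f₂ (p 1) (p 1)))
  · exact hs.free_pair hfree (hp.1 0) hp01 (hp.1 1) hP hyM h2 h3
  obtain ⟨k₀, hk₀, hk₀p⟩ := hs.exists_aniso_perp hp (by norm_num)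
  obtain ⟨k₁, hk₁, hk₁p⟩ := hs.exists_aniso_perp (hs.orth_snoc hp hk₀ hk₀p) (by norm_num)
  have e10 : f₂ k₁ k₀ = 0 := by simpa only [Fin.snoc_last] using hk₁p (Fin.last 2)
  have e12 : f₂ k₁ (p 0) = 0 := by simpa only [Fin.snoc_castSucc] using hk₁p (Fin.castSucc 0)
  have e13 : f₂ k₁ (p 1) = 0 := by simpa only [Fin.snoc_castSucc] using hk₁p (Fin.castSucc 1)
  have hk := hs.orth4 hk₀ hk₁ (hp.1 0) (hp.1 1) (by rw [hs.symm2]; exact e10) (hk₀p 0) (hk₀p 1) e12 e13 hp01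
  set r := krG ((1 : GL (Fin 2) F), rfl' f₂ k₀) with hr
  have hrM : r ∈ M := hLM (hs.rflK_mem hk₀)
  have hrp : ∀ i, Act r (p i) 1 := fun i => act_one_iff.mpr fun u => by
    rw [hr, krG_val, Units.val_one, kron_mulVec_ten, one_mulVec, hs.rfl2_fix hk₀ (by rw [hs.symm2, hk₀p])]
  set z := y * r * y⁻¹ with hz
  have hz2 : z * z = 1 := by
    rw [hz, show y * r * y⁻¹ * (y * r * y⁻¹) = y * (r * r) * y⁻¹ by group, hr, hs.rflK_sq hk₀, mul_one,
      mul_inv_cancel]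
  have hzM : z ∈ M := M.mul_mem (M.mul_mem hyM hrM) (M.inv_mem hyM)
  have hzf : ∀ i, Act z (p i) 1 := fun i => by
    simpa using act_mul (act_mul (act_one_iff.mpr (hy i)) (hrp i)) (act_inv (act_one_iff.mpr (hy i)))
  have hzL := hs.invol_mem hmin hLM hM hfree hk hP hzM (hzf 0) (hzf 1) hz2
  have hp0 : p 0 ≠ 0 := fun h => hp.1 0 (by rw [h, bl_zero_left hs.b2])
  obtain ⟨φ, hφ, A, hAinj, hA⟩ := hs.slice_of_conj (by norm_num) hM hyM hk₀ hzL hp0 (act_one_iff.mp (hzf 0))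
  exact hs.mem_of_slice_map hmin hLM hM hfree hk hP hyM h2 h3 A hφ
    (hs.slice_perp hM (by norm_num) hyM hy hk₀p hAinj hA 0)
    (hs.slice_perp hM (by norm_num) hyM hy hk₀p hAinj hA 1) hA

end Setting

end CfsgLib.TensorSympOrth
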