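import Cfsg.Agent.TensorMinus.Involution
import Cfsg.Agent.TensorSympOrth.Top

/-!
# Symplectic plane ⊗ minus type: all transvections
-/

set_option autoImplicit false
set_option linter.unusedSectionVars false

namespace CfsgLib.TensorSympOrth

open Matrix Cfsg.Geo CfsgLib.MaxSub CfsgLib.TensorMax
open CfsgLib.TensorUnitary (form ev isom pMat rowsIn)
open scoped Kronecker

variable {F : Type*} [Field F]

namespace Setting

variable {f₁ : (Fin 2 → F) → (Fin 2 → F) → F} {f₂ : (Fin 4 → F) → (Fin 4 → F) → F}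
  (hs : Setting f₁ f₂) {M : Subgroup (GL (Idx 2 4) F)} [Fintype F]
include hs

local notation "Φ" => form f₁ f₂
local notation "𝕃" => tensSO f₁ f₂

/-- The first slice. -/
theorem top_minus (hmin : NoIsoPlane f₂) (hLM : 𝕃 ≤ M) (hM : M ≤ isom Φ) {g : GL (Idx 2 4) F} (hg : g ∈ M)
    (hgL : g ∉ 𝕃) : Grow f₁ f₂ M (Fin.elim0 : Fin 0 → Fin 4 → F) := by
  classical
  by_contra hG
  have ha : 2 ≤ 2 := le_rfl
  have hb : 3 ≤ 4 := by norm_num
  have hb4 : 4 ≤ 4 := le_rfl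
  have ha' : 0 < 2 := by norm_num
  obtain ⟨e₁, he₁, -⟩ := hs.exists_aniso_perp (p := (Fin.elim0 : Fin 0 → Fin 4 → F))
    ⟨fun i => i.elim0, fun i => i.elim0⟩ (by omega)
  have o1 := hs.orth_snoc (p := (Fin.elim0 : Fin 0 → Fin 4 → F)) ⟨fun i => i.elim0, fun i => i.elim0⟩
    (h := e₁) he₁ fun i => i.elim0
  obtain ⟨e₂, he₂, hp₂⟩ := hs.exists_aniso_perp o1 (by omega)
  have h12 : f₂ e₁ e₂ = 0 := by rw [hs.symm2]; simpa only [Fin.snoc_last] using hp₂ (Fin.last 0)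
  obtain ⟨hz, hz2, hz1, hzfix⟩ := hs.plane_props he₁ he₂ h12
  have hN : ∀ h ∈ M, h * krG ((1 : GL (Fin 2) F), rfl' f₂ e₁ * rfl' f₂ e₂) * h⁻¹ ∈ 𝕃 :=
    fun h hh => hs.plane_mem ha hb hLM hM hG hb4 he₁ he₂ h12 hh
  set z := rfl' f₂ e₁ * rfl' f₂ e₂ with hzdef
  obtain ⟨k₀, hk₀, hk₀p⟩ := hs.exists_ne_perp ![e₁, e₂] (by omega)
  have hCz : ∀ x ∈ M, x * krG ((1 : GL (Fin 2) F), z) = krG ((1 : GL (Fin 2) F), z) * x → x ∈ 𝕃 :=
    fun x hx h => hs.top_cent ha hb hLM hM hG hx hz hz2 hz1 hk₀ (hzfix _ (hk₀p 0) (hk₀p 1)) h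
  set Z := krG ((1 : GL (Fin 2) F), z) with hZ
  set x := g * Z * g⁻¹ with hx
  have hxL : x ∈ 𝕃 := hN g hg
  obtain ⟨S, T, μ, hμ, hxST, hSμ, hTμ⟩ := hs.tens_cases ha' hxL (by omega)
  -- an anisotropic eigenvector is impossible
  have heig : ∀ w, f₂ w w ≠ 0 → ∀ c : F, (T : Matrix (Fin 4) (Fin 4) F) *ᵥ w ≠ c • w := by
    intro w hw c hc
    have hc0 : c ≠ 0 := fun h => hw (by
      rw [h, zero_smul, ← mulVec_zero (T : Matrix (Fin 4) (Fin 4) F)] at hc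
      rw [gl_mulVec_inj T hc, bl_zero_left hs.b2])
    have hrr : rfl' f₂ ((T : Matrix (Fin 4) (Fin 4) F) *ᵥ w) = rfl' f₂ w := by
      refine gl_ext fun v => ?_
      rw [hs.rfl2_mulVec (by rw [hTμ]; exact mul_ne_zero (inv_ne_zero hμ) hw), hs.rfl2_mulVec hw, hc,
        hs.b2.smul_left, hs.b2.smul_right, hs.b2.smul_right, smul_smul]
      congr 2
      field_simp
    have hcomm : x * krG ((1 : GL (Fin 2) F), rfl' f₂ w) * x⁻¹ = krG ((1 : GL (Fin 2) F), rfl' f₂ w) := by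
      rw [hxST, hs.krG_conj, hs.conj_rfl (inv_ne_zero hμ) hTμ hw, hrr]
    have h1 := hCz (g⁻¹ * krG ((1 : GL (Fin 2) F), rfl' f₂ w) * g)
      (M.mul_mem (M.mul_mem (M.inv_mem hg) (hLM (hs.rflK_mem hw))) hg) (by
        have h2 : Z = g⁻¹ * x * g := by rw [hx]; group
        rw [mul_inv_eq_iff_eq_mul] at hcomm
        rw [h2, show g⁻¹ * krG ((1 : GL (Fin 2) F), rfl' f₂ w) * g * (g⁻¹ * x * g)
          = g⁻¹ * (krG ((1 : GL (Fin 2) F), rfl' f₂ w) * x) * g by group, ← hcomm]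
        group)
    have h3 := hs.top_refl ha hb hLM hM hG (M.inv_mem hg) hw (by rwa [inv_inv])
    exact hgL (by simpa using (𝕃).inv_mem h3)
  have hx2 : x * x = 1 := by
    rw [hx, show g * Z * g⁻¹ * (g * Z * g⁻¹) = g * (Z * Z) * g⁻¹ by group, hZ, ← map_mul, Prod.mk_mul_mk, one_mul,
      hz2, Prod.mk_one_one, map_one, mul_one, mul_inv_cancel]
  -- the first component is not scalar
  have hSns : ∃ u, ∀ c : F, (S : Matrix (Fin 2) (Fin 2) F) *ᵥ u ≠ c • u := by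
    by_contra hcon
    push Not at hcon
    obtain ⟨s, hS⟩ := hs.scalar_of_eigen_gl hcon
    obtain ⟨T', hT', hxT'⟩ := hs.eq_one_kron' ha' (by omega) hxL hxST hS
    have hT'2 : T' * T' = 1 := by
      refine krG_one_inj ha' (a := 2) ?_
      rw [Prod.mk_one_one, map_one, ← hx2, hxT', ← map_mul, Prod.mk_mul_mk, one_mul]
    obtain ⟨k, hk, hkT, -⟩ := hs.exists_eigen_family hT' hT'2 (m := 4) (p := (Fin.elim0 : Fin 0 → Fin 4 → F))
      (by omega) ⟨fun i => i.elim0, fun i => i.elim0⟩ (fun i => i.elim0)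
    have heq : (T : Matrix (Fin 4) (Fin 4) F) = s⁻¹ • (T' : Matrix (Fin 4) (Fin 4) F) := by
      have hs0 : s ≠ 0 := fun h => by
        have h1 := Units.mul_inv S
        rw [hS, h, zero_smul, zero_mul] at h1
        have h2 := congrFun (congrFun h1 ⟨0, ha'⟩) ⟨0, ha'⟩
        simp at h2
      refine Matrix.ext_iff_mulVec.mpr fun w => ten_inj_right (x := (Pi.single ⟨0, ha'⟩ 1 : Fin 2 → F))
        (by simp) ?_
      have h1 := congrArg (fun m : GL (Idx 2 4) F =>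
        (m : Matrix (Idx 2 4) (Idx 2 4) F) *ᵥ ten (Pi.single ⟨0, ha'⟩ 1) w) (hxST.symm.trans hxT')
      simp only [krG_val, Units.val_one, kron_mulVec_ten, one_mulVec, hS, smul_mulVec, ten_smul_left] at h1
      rw [smul_mulVec, ten_smul_right, ← h1, smul_smul, inv_mul_cancel₀ hs0, one_smul]
    have hj := hk.1 ⟨0, by omega⟩
    rcases hkT ⟨0, by omega⟩ with h | h
    · exact heig _ hj s⁻¹ (by rw [heq, smul_mulVec, h])
    · exact heig _ hj (-s⁻¹) (by rw [heq, smul_mulVec, h, smul_neg, neg_smul])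
  obtain ⟨e₀, -⟩ : ∃ e : Fin 2 → F, e = Pi.single ⟨0, ha'⟩ 1 := ⟨_, rfl⟩
  have hval : ∀ u w, ten ((S : Matrix (Fin 2) (Fin 2) F) *ᵥ ((S : Matrix (Fin 2) (Fin 2) F) *ᵥ u))
      ((T : Matrix (Fin 4) (Fin 4) F) *ᵥ ((T : Matrix (Fin 4) (Fin 4) F) *ᵥ w)) = ten u w := fun u w => by
    have h1 := congrArg (fun m : GL (Idx 2 4) F => (m : Matrix (Idx 2 4) (Idx 2 4) F) *ᵥ ten u w) hx2
    simpa only [hxST, gl_mul_mulVec, krG_val, kron_mulVec_ten, Units.val_one, one_mulVec] using h1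
  obtain ⟨s, hs2⟩ : ∃ s : F, ∀ u, (S : Matrix (Fin 2) (Fin 2) F) *ᵥ ((S : Matrix (Fin 2) (Fin 2) F) *ᵥ u)
      = s • u := by
    have hw : (Pi.single ⟨0, by omega⟩ 1 : Fin 4 → F) ≠ 0 := by simp
    obtain ⟨s, hS2⟩ := scalar_of_fix (S := (S : Matrix (Fin 2) (Fin 2) F) * (S : Matrix (Fin 2) (Fin 2) F))
      (T := (T : Matrix (Fin 4) (Fin 4) F) * (T : Matrix (Fin 4) (Fin 4) F)) hw (fun u => by
        rw [kron_mulVec_ten, ← mulVec_mulVec, ← mulVec_mulVec]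
        exact hval u _)
    exact ⟨s, fun u => by rw [mulVec_mulVec, hS2, smul_mulVec, one_mulVec]⟩
  obtain ⟨u, hu⟩ : ∃ u, f₁ u ((S : Matrix (Fin 2) (Fin 2) F) *ᵥ u) ≠ 0 := by
    by_contra hcon
    push Not at hcon
    obtain ⟨u₁, hu₁⟩ := hSns
    obtain ⟨c, hc⟩ := hs.plane_eigen (S : Matrix (Fin 2) (Fin 2) F).mulVecLin fun v => by
      rw [hs.skew1, mulVecLin_apply, hcon, neg_zero]
    exact hu₁ c (hc u₁)
  have hμs : μ = -s := by
    have h := hSμ u ((S : Matrix (Fin 2) (Fin 2) F) *ᵥ u)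
    rw [hs2, hs.b1.smul_right, hs.skew1 _ u] at h
    refine mul_right_cancel₀ hu ?_
    linear_combination -h
  have hT2 : ∀ w, s • ((T : Matrix (Fin 4) (Fin 4) F) *ᵥ ((T : Matrix (Fin 4) (Fin 4) F) *ᵥ w)) = w := fun w => by
    refine ten_inj_right (x := u) (fun h0 => hu (by rw [h0, bl_zero_left hs.b1])) ?_
    rw [ten_smul_right, ← ten_smul_left, ← hs2]
    exact hval u w
  have hskew : ∀ w, f₂ ((T : Matrix (Fin 4) (Fin 4) F) *ᵥ w) w = 0 := fun w => by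
    have h := hTμ w ((T : Matrix (Fin 4) (Fin 4) F) *ᵥ w)
    have h' : f₂ ((T : Matrix (Fin 4) (Fin 4) F) *ᵥ w) w
        = s * f₂ ((T : Matrix (Fin 4) (Fin 4) F) *ᵥ w) ((T : Matrix (Fin 4) (Fin 4) F) *ᵥ
          ((T : Matrix (Fin 4) (Fin 4) F) *ᵥ w)) := by
      conv_lhs => arg 2; rw [← hT2 w]
      rw [hs.b2.smul_right]
    rw [h, hs.symm2 w, hμs, inv_neg] at h'
    have hs0 : s ≠ 0 := fun h0 => hμ (by rw [hμs, h0, neg_zero])
    have h'' : f₂ ((T : Matrix (Fin 4) (Fin 4) F) *ᵥ w) w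
        = -f₂ ((T : Matrix (Fin 4) (Fin 4) F) *ᵥ w) w := by
      rw [neg_mul, mul_neg, ← mul_assoc, mul_inv_cancel₀ hs0, one_mul] at h'
      exact h'
    exact (mul_eq_zero.mp (show (2 : F) * f₂ ((T : Matrix (Fin 4) (Fin 4) F) *ᵥ w) w = 0 by
      linear_combination h'')).resolve_left hs.two
  -- isotropic vectors are eigenvectors
  have hline : ∀ w, w ≠ 0 → f₂ w w = 0 → ∃ γ : F, (T : Matrix (Fin 4) (Fin 4) F) *ᵥ w = γ • w := fun w hw0 hw =>
    hmin w _ hw0 hw (by rw [hs.symm2]; exact hskew w) (by rw [hTμ, hw, mul_zero])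
  obtain ⟨c, hc0, hc⟩ := hs.exists_iso hb
  obtain ⟨d, hd, hdc⟩ := hs.exists_partner hc0 hc
  obtain ⟨e, he, hec, hed⟩ := hs.exists_aniso_pair hb hc hd hdc
  have hd0 : d ≠ 0 := fun h => by rw [h, bl_zero_left hs.b2] at hdc; exact zero_ne_one hdc
  obtain ⟨α, hα⟩ := hline c hc0 hc
  obtain ⟨β, hβ⟩ := hline d hd0 hd
  obtain ⟨t, ht⟩ : ∃ t, t = -f₂ e e / 2 := ⟨_, rfl⟩
  have ht2 : t * 2 = -f₂ e e := by rw [ht, div_mul_cancel₀ _ hs.two]
  have hcd : f₂ c d = 1 := by rw [hs.symm2, hdc]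
  obtain ⟨γ, hγ⟩ := hline (c + t • d + e) (fun h => by
    have := congrArg (fun w => f₂ w d) h
    simp only [hs.b2.add_left, hs.b2.smul_left, hcd, hd, hed, bl_zero_left hs.b2] at this
    simp at this) (by
    simp only [hs.b2.add_left, hs.b2.add_right, hs.b2.smul_left, hs.b2.smul_right, hc, hd, hdc, hcd, hec, hed,
      hs.symm2 c e, hs.symm2 d e]
    linear_combination ht2)
  simp only [mulVec_add, mulVec_smul, hα, hβ] at hγ
  have h1 := hTμ e c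
  rw [hα, hs.b2.smul_right, hec, mul_zero] at h1
  have h2 := hTμ e d
  rw [hβ, hs.b2.smul_right, hed, mul_zero] at h2
  have h3 := hTμ d c
  rw [hα, hβ, hs.b2.smul_left, hs.b2.smul_right, hdc, mul_one, mul_one] at h3
  have hα0 : α ≠ 0 := fun h => inv_ne_zero hμ (by rw [← h3, h, mul_zero])
  have hβ0 : β ≠ 0 := fun h => inv_ne_zero hμ (by rw [← h3, h, zero_mul])
  have e1 := congrArg (fun w => f₂ w c) hγ
  have e2 := congrArg (fun w => f₂ w d) hγ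
  simp only [hs.b2.add_left, hs.b2.smul_left, hc, hd, hdc, hcd, hec, hed, (mul_eq_zero.mp h1).resolve_left hα0,
    (mul_eq_zero.mp h2).resolve_left hβ0] at e1 e2
  have ht0 : t ≠ 0 := fun h => he (by rw [h, zero_mul] at ht2; exact neg_eq_zero.mp ht2.symm)
  have hαβ : β = α := mul_left_cancel₀ ht0 (by linear_combination e1 - t * e2)
  have hs0 : s ≠ 0 := fun h0 => hμ (by rw [hμs, h0, neg_zero])
  have h4 := hT2 c
  rw [hα, mulVec_smul, hα, smul_smul, smul_smul] at h4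
  have h5 : s * (α * α) = 1 := smul_left_injective F hc0 (by simpa only [mul_assoc, one_smul] using h4)
  rw [hαβ, hμs] at h3
  have h6 : s * (α * α) = -1 := by rw [h3, inv_neg, mul_neg, mul_inv_cancel₀ hs0]
  exact hs.two (by linear_combination h6 - h5)

/-- An overgroup with an element outside the stabiliser contains all transvections. -/
theorem cen_of_overgroup_minus (hmin : NoIsoPlane f₂) (hLM : 𝕃 ≤ M) (hM : M ≤ isom Φ) {g : GL (Idx 2 4) F}
    (hg : g ∈ M) (hgL : g ∉ 𝕃) (v : Idx 2 4 → F) : IsCen Φ M v := by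
  by_cases hfree : FreeIso f₁ f₂ M
  swap
  · simp only [FreeIso, not_forall] at hfree
    obtain ⟨c, hc0, hc, y, hy, hfix, hyL⟩ := hfree
    exact hs.cen_of_slice (by norm_num) (by norm_num) hLM hM hc0 hc hy hyL hfix v
  rcases hs.top_minus hmin hLM hM hg hgL with ⟨h₁, hh₁, hp₁, y₁, hy₁M, hy₁L, hy₁⟩ | hall
  swap
  · exact hall v
  have o₁ := hs.orth_snoc (p := (Fin.elim0 : Fin 0 → Fin 4 → F)) ⟨fun i => i.elim0, fun i => i.elim0⟩ hh₁ hp₁
  rcases hs.step (by norm_num) hLM hM o₁ Nat.one_pos (by norm_num) hy₁M hy₁L hy₁ with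
    ⟨h₂, hh₂, hp₂, y₂, hy₂M, hy₂L, hy₂⟩ | hall
  swap
  · exact hall v
  exact absurd (hs.two_slices hmin hLM hM hfree (hs.orth_snoc o₁ hh₂ hp₂) hy₂M hy₂) hy₂L

end Setting

end CfsgLib.TensorSympOrth
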